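import Mathlib

/-!
# Factoring morphisms through a closed surjective `O`-connected morphism

* `exists_affine_factor`: `p : T ⟶ V` with `V` affine and `p.appTop` iso: every map from `T` to an
  affine scheme factors through `p`.
* `eq_of_std_affine`, `std_epi`: quasi-compact scheme-theoretically dominant maps are epimorphic
  for maps into a scheme separated over an affine scheme.
* `isIso_app_of_flat_baseChange`: `O_S ≅ iX_* O_X` is preserved by flat base change (on affine opens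
  lying over affine opens).
* `exists_factor`: `π` closed surjective qc scheme-theoretically dominant, with `π.app V` iso on a
  basis of affine opens; `φ` constant on the fibres of `π`, target `Z` "separated" ⇒ `φ` factors
  through `π`.
-/

set_option autoImplicit false
universe u
open CategoryTheory CategoryTheory.Limits AlgebraicGeometry

namespace Groth.Agent.H8.ActDesc

theorem exists_affine_factor {T V W : Scheme.{u}} [IsAffine V] [IsAffine W] (p : T ⟶ V)
    [IsIso p.appTop] (h : T ⟶ W) : ∃ b : V ⟶ W, p ≫ b = h := by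
  refine ⟨V.toSpecΓ ≫ Spec.map (h.appTop ≫ inv p.appTop) ≫ inv W.toSpecΓ, ?_⟩
  rw [← Category.assoc, Scheme.toSpecΓ_naturality, Category.assoc,
    ← Category.assoc (Spec.map p.appTop), ← Spec.map_comp, Category.assoc, IsIso.inv_hom_id,
    Category.comp_id, ← Category.assoc, ← Scheme.toSpecΓ_naturality, Category.assoc,
    IsIso.hom_inv_id, Category.comp_id]

theorem eq_of_std_affine {P Q B : Scheme.{u}} [IsAffine B] (j : Q ⟶ P)
    [IsSchemeTheoreticallyDominant j] [QuasiCompact j] (m₁ m₂ : P ⟶ B) (h : j ≫ m₁ = j ≫ m₂) :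
    m₁ = m₂ := by
  apply ext_of_isAffine
  have h2 : m₁.appTop ≫ j.appTop = m₂.appTop ≫ j.appTop := by
    rw [← Scheme.Hom.comp_appTop, ← Scheme.Hom.comp_appTop, h]
  ext x
  apply j.app_injective ⊤
  exact congrArg (fun φ => φ.hom x) h2

/-- a closed immersion through which a scheme-theoretically dominant morphism factors is an iso -/
theorem isIso_of_factor {W E X : Scheme.{u}} (e : E ⟶ X) [IsClosedImmersion e] (l : W ⟶ E)
    (h : IsSchemeTheoreticallyDominant (l ≫ e)) : IsIso e := by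
  have hk := (isSchemeTheoreticallyDominant_iff _).mp h
  rw [IsClosedImmersion.isIso_iff_ker_eq_bot, ← le_bot_iff, ← hk]
  exact Scheme.Hom.le_ker_comp l e

/-- two morphisms to a separated target which agree on a scheme-theoretically dominant source agree
(copied from helper9's `StdExt.ext_of_std`). -/
theorem ext_of_std {W X Y Z : Scheme.{u}} {f g : X ⟶ Y} (s : Y ⟶ Z) [IsSeparated s]
    (h : f ≫ s = g ≫ s) (j : W ⟶ X) [IsSchemeTheoreticallyDominant j] (hU : j ≫ f = j ≫ g) :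
    f = g := by
  let X' : Over Z := Over.mk (f ≫ s)
  let Y' : Over Z := Over.mk s
  let U' : Over Z := Over.mk (j ≫ f ≫ s)
  let f' : X' ⟶ Y' := Over.homMk f
  let g' : X' ⟶ Y' := Over.homMk g (by simpa [X', Y'] using h.symm)
  let j' : U' ⟶ X' := Over.homMk j
  have : IsSeparated Y'.hom := ‹_›
  have hjfg : j' ≫ f' = j' ≫ g' := by ext1; exact hU
  have hl : (equalizer.lift j' hjfg).left ≫ (equalizer.ι f' g').left = j := by
    rw [← Over.comp_left, equalizer.lift_ι]; rfl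
  have : IsIso (equalizer.ι f' g').left :=
    isIso_of_factor _ (equalizer.lift j' hjfg).left (by rw [hl]; infer_instance)
  rw [← cancel_epi (equalizer.ι f' g').left]
  exact congr($(equalizer.condition f' g').left)

theorem std_epi {Z B : Scheme.{u}} (s : Z ⟶ B) [IsSeparated s] [IsAffine B] {P Q : Scheme.{u}}
    (j : Q ⟶ P) [IsSchemeTheoreticallyDominant j] [QuasiCompact j] (m₁ m₂ : P ⟶ Z)
    (h : j ≫ m₁ = j ≫ m₂) : m₁ = m₂ := by
  have h1 : m₁ ≫ s = m₂ ≫ s := by
    apply eq_of_std_affine j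
    rw [← Category.assoc, h, Category.assoc]
  exact ext_of_std s h1 j h

theorem isIso_app_of_flat_baseChange {X Y S T : Scheme.{u}} {f : T ⟶ S} {g : Y ⟶ X} {iX : X ⟶ S}
    {iY : Y ⟶ T} (H : IsPullback g iY iX f) [Flat f] [QuasiCompact iX] [QuasiSeparated iX]
    (US : S.Opens) (hUS : IsAffineOpen US) (hiso : IsIso (iX.app US))
    (UT : T.Opens) (hUT : IsAffineOpen UT) (hle : UT ≤ f ⁻¹ᵁ US) : IsIso (iY.app UT) := by
  have hUY : iY ⁻¹ᵁ UT = g ⁻¹ᵁ (iX ⁻¹ᵁ US) ⊓ iY ⁻¹ᵁ UT := by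
    refine (inf_eq_right.mpr ?_).symm
    intro y hy
    have h1 : f (iY y) ∈ US := hle hy
    have h2 : iX (g y) = f (iY y) := by
      rw [← Scheme.Hom.comp_apply, ← Scheme.Hom.comp_apply, H.w]
    show iX (g y) ∈ US
    rw [h2]; exact h1
  have hc : IsCompact (iX ⁻¹ᵁ US : Set X) := iX.isCompact_preimage hUS.isCompact
  have hqs : IsQuasiSeparated (iX ⁻¹ᵁ US : Set X) :=
    iX.isQuasiSeparated_preimage hUS.isQuasiSeparated
  have h1 := isIso_pushoutSection_of_isQuasiSeparated_of_flat_right H hle (le_refl _) hUY hUS hUT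
    hc hqs
  have h2 := (isIso_pushoutSection_iff H hle (le_refl _) hUY).mp h1
  have : IsIso (iX.appLE US (iX ⁻¹ᵁ US) (le_refl _)) := by
    rw [Scheme.Hom.appLE_eq_app]; exact hiso
  have h3 := h2.isIso_inr_of_isIso
  rwa [Scheme.Hom.appLE_eq_app] at h3

theorem exists_factor {X' Y' Z : Scheme.{u}} (π : X' ⟶ Y') [QuasiCompact π]
    [IsSchemeTheoreticallyDominant π] (hsurj : Function.Surjective π)
    (hclosed : IsClosedMap π)
    (hepi : ∀ {P Q : Scheme.{u}} (j : Q ⟶ P) [IsSchemeTheoreticallyDominant j] [QuasiCompact j]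
      (m₁ m₂ : P ⟶ Z), j ≫ m₁ = j ≫ m₂ → m₁ = m₂)
    (φ : X' ⟶ Z) (hφ : ∀ p q : X', π p = π q → φ p = φ q)
    (𝓑 : Y'.Opens → Prop) (hBaff : ∀ V, 𝓑 V → IsAffineOpen V)
    (hBiso : ∀ V, 𝓑 V → IsIso (π.app V))
    (hbasis : ∀ (y : Y') (O : Y'.Opens), y ∈ O → ∃ V, 𝓑 V ∧ y ∈ V ∧ V ≤ O) :
    ∃ b : Y' ⟶ Z, π ≫ b = φ := by
  have hloc : ∀ y : Y', ∃ (V : Y'.Opens) (_ : y ∈ V) (bV : (V : Scheme.{u}) ⟶ Z),
      (π ∣_ V) ≫ bV = (π ⁻¹ᵁ V).ι ≫ φ := by
    intro y
    obtain ⟨x, hx⟩ := hsurj y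
    obtain ⟨W, hW, hxW⟩ : ∃ W : Z.Opens, IsAffineOpen W ∧ φ x ∈ W := by
      obtain ⟨W, hW, hxW, -⟩ := TopologicalSpace.Opens.isBasis_iff_nbhd.mp Z.isBasis_affineOpens
        (show φ x ∈ (⊤ : Z.Opens) from trivial)
      exact ⟨W, hW, hxW⟩
    obtain ⟨Cset, hCset⟩ : ∃ Cset : Set Y', Cset = π '' ((φ ⁻¹ᵁ W : X'.Opens) : Set X')ᶜ :=
      ⟨_, rfl⟩
    have hCclosed : IsClosed Cset := by
      rw [hCset]; exact hclosed _ (φ ⁻¹ᵁ W).isOpen.isClosed_compl
    let O : Y'.Opens := ⟨Csetᶜ, hCclosed.isOpen_compl⟩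
    have hyO : y ∈ O := by
      intro hmem
      rw [hCset] at hmem
      obtain ⟨x', hx', hxy⟩ := hmem
      apply hx'
      show φ x' ∈ W
      rw [hφ x' x (hxy.trans hx.symm)]
      exact hxW
    have hO : π ⁻¹ᵁ O ≤ φ ⁻¹ᵁ W := by
      intro x' hx'
      by_contra hn
      apply hx'
      rw [hCset]
      exact ⟨x', hn, rfl⟩
    obtain ⟨V, hBV, hyV, hVO⟩ := hbasis y O hyO
    have hVW : π ⁻¹ᵁ V ≤ φ ⁻¹ᵁ W := le_trans (fun x' hx' => hVO hx') hO
    have : IsAffine (V : Scheme.{u}) := hBaff V hBV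
    have : IsAffine (W : Scheme.{u}) := hW
    have : IsIso (π ∣_ V).appTop := by
      rw [morphismRestrict_appTop]
      have key : ∀ O' : Y'.Opens, O' = V → IsIso (π.app O') := by
        intro O' hO'; rw [hO']; exact hBiso V hBV
      have h1 : IsIso (π.app (V.ι ''ᵁ ⊤)) := key _ (Scheme.Opens.ι_image_top V)
      have h2 : IsIso (X'.presheaf.map (eqToHom (image_morphismRestrict_preimage π V ⊤)).op) :=
        inferInstance
      exact @IsIso.comp_isIso _ _ _ _ _ _ _ h1 h2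
    obtain ⟨b', hb'⟩ := exists_affine_factor (π ∣_ V) (φ.resLE W (π ⁻¹ᵁ V) hVW)
    refine ⟨V, hyV, b' ≫ W.ι, ?_⟩
    rw [← Category.assoc, hb', Scheme.Hom.resLE_comp_ι]
  choose V hyV bV hbV using hloc
  have hcover : TopologicalSpace.IsOpenCover V := by
    apply TopologicalSpace.IsOpenCover.mk
    rw [eq_top_iff]
    intro y _
    exact TopologicalSpace.Opens.mem_iSup.mpr ⟨y, hyV y⟩
  obtain ⟨𝒰, h𝒰⟩ : ∃ 𝒰 : Y'.OpenCover, 𝒰 = Y'.openCoverOfIsOpenCover V hcover := ⟨_, rfl⟩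
  have hcompat : ∀ y₁ y₂ : Y',
      pullback.fst ((Y'.openCoverOfIsOpenCover V hcover).f y₁)
        ((Y'.openCoverOfIsOpenCover V hcover).f y₂) ≫ bV y₁ =
      pullback.snd ((Y'.openCoverOfIsOpenCover V hcover).f y₁)
        ((Y'.openCoverOfIsOpenCover V hcover).f y₂) ≫ bV y₂ := by
    intro y₁ y₂
    show pullback.fst (V y₁).ι (V y₂).ι ≫ bV y₁ = pullback.snd (V y₁).ι (V y₂).ι ≫ bV y₂
    obtain ⟨j, hj⟩ : ∃ j : pullback (V y₁).ι (V y₂).ι ⟶ Y',
      j = pullback.fst (V y₁).ι (V y₂).ι ≫ (V y₁).ι := ⟨_, rfl⟩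
    have hj2 : j = pullback.snd (V y₁).ι (V y₂).ι ≫ (V y₂).ι := by
      rw [hj, pullback.condition]
    have : IsOpenImmersion j := by rw [hj]; infer_instance
    apply hepi (pullback.snd π j)
    have hsq₁ := isPullback_morphismRestrict π (V y₁)
    have hsq₂ := isPullback_morphismRestrict π (V y₂)
    have hc₁ : (pullback.snd π j ≫ pullback.fst (V y₁).ι (V y₂).ι) ≫ (V y₁).ι =
        pullback.fst π j ≫ π := by
      rw [Category.assoc, ← hj, pullback.condition]
    have hc₂ : (pullback.snd π j ≫ pullback.snd (V y₁).ι (V y₂).ι) ≫ (V y₂).ι =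
        pullback.fst π j ≫ π := by
      rw [Category.assoc, ← hj2, pullback.condition]
    have e₁ : pullback.snd π j ≫ pullback.fst (V y₁).ι (V y₂).ι ≫ bV y₁ =
        pullback.fst π j ≫ φ := by
      rw [← Category.assoc, ← hsq₁.lift_fst _ _ hc₁, Category.assoc, hbV y₁, ← Category.assoc,
        hsq₁.lift_snd]
    have e₂ : pullback.snd π j ≫ pullback.snd (V y₁).ι (V y₂).ι ≫ bV y₂ =
        pullback.fst π j ≫ φ := by
      rw [← Category.assoc, ← hsq₂.lift_fst _ _ hc₂, Category.assoc, hbV y₂, ← Category.assoc,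
        hsq₂.lift_snd]
    rw [e₁, e₂]
  refine ⟨(Y'.openCoverOfIsOpenCover V hcover).glueMorphisms bV hcompat, ?_⟩
  apply Scheme.hom_ext_of_forall
  intro x
  refine ⟨π ⁻¹ᵁ V (π x), hyV (π x), ?_⟩
  have hι := (Y'.openCoverOfIsOpenCover V hcover).ι_glueMorphisms bV hcompat (π x)
  have hι' : (V (π x)).ι ≫ (Y'.openCoverOfIsOpenCover V hcover).glueMorphisms bV hcompat =
      bV (π x) := hι
  rw [← Category.assoc, ← morphismRestrict_ι, Category.assoc, hι', hbV]

end Groth.Agent.H8.ActDesc
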