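import Groth.Agent.Lib.Helper8.ActDesc.Factor
import Groth.Prelude.Def_AlgGrp

/-!
# Descending a group action along a proper `O`-connected morphism (over a field)
-/

set_option autoImplicit false
universe u
open CategoryTheory MonoidalCategory CartesianMonoidalCategory MonObj GrpObj AlgebraicGeometry
  CategoryTheory.Limits

namespace Groth.Agent.H8.ActDesc

section Squares

variable {S : Scheme.{u}}

/-- copied from helper9's `SIM.isPullback_whiskerLeft_left`. -/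
theorem isPullback_whiskerLeft_left (C : Over S) {A B : Over S} (g : A ⟶ B) :
    IsPullback (snd C A).left (C ◁ g).left g.left (snd C B).left := by
  refine (IsPullback.of_right (h₁₂ := (fst C B).left) (v₁₃ := C.hom) (h₂₂ := B.hom) ?_ ?_ ?_).flip
  · have e1 : (C ◁ g).left ≫ (fst C B).left = (fst C A).left := Over.whiskerLeft_left_fst g
    have e2 : g.left ≫ B.hom = A.hom := Over.w g
    rw [e1, e2]
    exact (IsPullback.of_hasPullback C.hom A.hom)
  · exact Over.whiskerLeft_left_snd g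
  · exact (IsPullback.of_hasPullback C.hom B.hom)

end Squares

theorem std_of_isIso_app {X Y : Scheme.{u}} (f : X ⟶ Y) [QuasiCompact f]
    (h : ∀ U : Y.Opens, IsIso (f.app U)) : IsSchemeTheoreticallyDominant f := by
  rw [isSchemeTheoreticallyDominant_iff]
  ext U : 2
  rw [Scheme.Hom.ker_apply, Scheme.IdealSheafData.ideal_bot]
  have := h U.1
  exact (RingHom.injective_iff_ker_eq_bot _).mp
    (ConcreteCategory.bijective_of_isIso (f.app U.1)).injective

theorem surjective_of_proper_std {X Y : Scheme.{u}} (f : X ⟶ Y) [IsProper f]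
    [IsSchemeTheoreticallyDominant f] : Surjective f := by
  have hd : DenseRange f := f.denseRange
  have hc : IsClosed (Set.range f) := f.isClosedMap.isClosed_range
  refine ⟨fun y => ?_⟩
  have hy : y ∈ closure (Set.range f) := hd y
  rwa [hc.closure_eq] at hy

variable {k : Type u} [Field k]

theorem dominant_whiskerLeft (C : Over (Spec (CommRingCat.of k)))
    {A B : Over (Spec (CommRingCat.of k))} (g : A ⟶ B)
    [IsSchemeTheoreticallyDominant g.left] [QuasiCompact g.left] :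
    IsSchemeTheoreticallyDominant (C ◁ g).left ∧ QuasiCompact (C ◁ g).left := by
  have hfl : Flat (snd C B).left := by
    show Flat (pullback.snd C.hom B.hom)
    infer_instance
  exact ⟨IsSchemeTheoreticallyDominant.of_isPullback (isPullback_whiskerLeft_left C g),
    MorphismProperty.of_isPullback (P := @QuasiCompact) (isPullback_whiskerLeft_left C g)
      inferInstance⟩

theorem over_epi {Y : Over (Spec (CommRingCat.of k))} [IsSeparated Y.hom]
    {P Q : Over (Spec (CommRingCat.of k))} (j : Q ⟶ P) [IsSchemeTheoreticallyDominant j.left]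
    [QuasiCompact j.left] (m₁ m₂ : P ⟶ Y) (h : j ≫ m₁ = j ≫ m₂) : m₁ = m₂ := by
  ext
  apply std_epi Y.hom j.left
  rw [← Over.comp_left, ← Over.comp_left, h]

variable (G X Y : Over (Spec (CommRingCat.of k))) [GrpObj G]

theorem one_two (f : X ⟶ Y) (a : AlgGrp.Action G X) (b : AlgGrp.Action G Y)
    (hb : (G ◁ f) ≫ b.act = a.act ≫ f)
    (T : Over (Spec (CommRingCat.of k))) (g : T ⟶ G) (x₁ x₂ : T ⟶ X) (h : x₁ ≫ f = x₂ ≫ f) :
    lift g x₁ ≫ a.act ≫ f = lift g x₂ ≫ a.act ≫ f := by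
  rw [← hb, lift_whiskerLeft_assoc, lift_whiskerLeft_assoc, h]

theorem two_three (f : X ⟶ Y) (a : AlgGrp.Action G X)
    (h2 : ∀ (T : Over (Spec (CommRingCat.of k))) (g : T ⟶ G) (x₁ x₂ : T ⟶ X),
      x₁ ≫ f = x₂ ≫ f → lift g x₁ ≫ a.act ≫ f = lift g x₂ ≫ a.act ≫ f)
    (p q : ↥(G ⊗ X).left) (hpq : (G ◁ f).left p = (G ◁ f).left q) :
    (a.act ≫ f).left p = (a.act ≫ f).left q := by
  obtain ⟨π, hπ⟩ : ∃ π : (G ⊗ X).left ⟶ (G ⊗ Y).left, π = (G ◁ f).left := ⟨_, rfl⟩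
  rw [← hπ] at hpq
  obtain ⟨z, hz1, hz2⟩ := Scheme.Pullback.exists_preimage_pullback p q hpq
  obtain ⟨t₀, ht₀⟩ : ∃ t₀ : Spec ((pullback π π).residueField z) ⟶ pullback π π,
    t₀ = (pullback π π).fromSpecResidueField z := ⟨_, rfl⟩
  obtain ⟨t₁, ht₁⟩ : ∃ t₁, t₁ = t₀ ≫ pullback.fst π π := ⟨_, rfl⟩
  obtain ⟨t₂, ht₂⟩ : ∃ t₂, t₂ = t₀ ≫ pullback.snd π π := ⟨_, rfl⟩
  have ht : t₁ ≫ π = t₂ ≫ π := by
    rw [ht₁, ht₂, Category.assoc, Category.assoc, pullback.condition]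
  let TO : Over (Spec (CommRingCat.of k)) := Over.mk (t₁ ≫ (G ⊗ X).hom)
  let τ₁ : TO ⟶ G ⊗ X := Over.homMk t₁ rfl
  let τ₂ : TO ⟶ G ⊗ X := Over.homMk t₂ (by
    show t₂ ≫ (G ⊗ X).hom = t₁ ≫ (G ⊗ X).hom
    rw [← Over.w (G ◁ f), ← hπ, ← Category.assoc, ← ht, Category.assoc])
  have hτ : τ₁ ≫ (G ◁ f) = τ₂ ≫ (G ◁ f) := by
    apply Over.OverMorphism.ext
    show t₁ ≫ (G ◁ f).left = t₂ ≫ (G ◁ f).left
    rw [← hπ]; exact ht
  have hg : τ₁ ≫ fst G X = τ₂ ≫ fst G X := by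
    have := congrArg (· ≫ fst G Y) hτ
    simpa only [Category.assoc, whiskerLeft_fst] using this
  have hx : (τ₁ ≫ snd G X) ≫ f = (τ₂ ≫ snd G X) ≫ f := by
    have := congrArg (· ≫ snd G Y) hτ
    simpa only [Category.assoc, whiskerLeft_snd] using this
  have e₁ : lift (τ₁ ≫ fst G X) (τ₁ ≫ snd G X) = τ₁ := by
    apply CartesianMonoidalCategory.hom_ext <;> simp
  have e₂ : lift (τ₁ ≫ fst G X) (τ₂ ≫ snd G X) = τ₂ := by
    rw [hg]
    apply CartesianMonoidalCategory.hom_ext <;> simp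
  have key := h2 TO (τ₁ ≫ fst G X) (τ₁ ≫ snd G X) (τ₂ ≫ snd G X) hx
  rw [e₁, e₂] at key
  have key' : t₁ ≫ (a.act ≫ f).left = t₂ ≫ (a.act ≫ f).left :=
    congrArg (fun m => m.left) key
  obtain ⟨s⟩ : Nonempty ↥(Spec ((pullback π π).residueField z)) := inferInstance
  have hp : t₁ s = p := by
    rw [ht₁, Scheme.Hom.comp_apply, ht₀, Scheme.fromSpecResidueField_apply, hz1]
  have hq : t₂ s = q := by
    rw [ht₂, Scheme.Hom.comp_apply, ht₀, Scheme.fromSpecResidueField_apply, hz2]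
  have := congrArg (fun m : Spec ((pullback π π).residueField z) ⟶ Y.left => m s) key'
  simp only [Scheme.Hom.comp_apply] at this
  rw [hp, hq] at this
  exact this

theorem three_one [IsSeparated Y.hom] (f : X ⟶ Y) [IsProper f.left]
    (hf : ∀ U : Y.left.Opens, IsIso (f.left.app U)) (a : AlgGrp.Action G X)
    (h3 : ∀ p q : ↥(G ⊗ X).left, (G ◁ f).left p = (G ◁ f).left q →
      (a.act ≫ f).left p = (a.act ≫ f).left q) :
    ∃ b : AlgGrp.Action G Y, (G ◁ f) ≫ b.act = a.act ≫ f := by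
  have hstd : IsSchemeTheoreticallyDominant f.left := std_of_isIso_app _ hf
  have hsurjf : Surjective f.left := surjective_of_proper_std f.left
  have hsq := isPullback_whiskerLeft_left G f
  obtain ⟨hπstd, hπqc⟩ := dominant_whiskerLeft G f
  have hπproper : IsProper (G ◁ f).left :=
    MorphismProperty.of_isPullback (P := @IsProper) hsq inferInstance
  have hπsurj : Surjective (G ◁ f).left :=
    MorphismProperty.of_isPullback (P := @Surjective) hsq inferInstance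
  have hfl : Flat (snd G Y).left := by
    show Flat (pullback.snd G.hom Y.hom)
    infer_instance
  obtain ⟨b₀, hb₀⟩ := exists_factor (G ◁ f).left (G ◁ f).left.surjective
    (G ◁ f).left.isClosedMap
    (fun {P Q} j _ _ m₁ m₂ h => std_epi Y.hom j m₁ m₂ h) (a.act ≫ f).left h3
    (fun V => IsAffineOpen V ∧ ∃ Y₀ : Y.left.Opens, IsAffineOpen Y₀ ∧
      V ≤ (snd G Y).left ⁻¹ᵁ Y₀)
    (fun V hV => hV.1)
    (fun V hV => by
      obtain ⟨hVaff, Y₀, hY₀, hle⟩ := hV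
      exact isIso_app_of_flat_baseChange hsq Y₀ hY₀ (hf Y₀) V hVaff hle)
    (fun y O hyO => by
      obtain ⟨Y₀, hY₀, hyY₀⟩ : ∃ Y₀ : Y.left.Opens, IsAffineOpen Y₀ ∧ (snd G Y).left y ∈ Y₀ := by
        obtain ⟨Y₀, hY₀, hyY₀, -⟩ := TopologicalSpace.Opens.isBasis_iff_nbhd.mp
          Y.left.isBasis_affineOpens (show (snd G Y).left y ∈ (⊤ : Y.left.Opens) from trivial)
        exact ⟨Y₀, hY₀, hyY₀⟩
      obtain ⟨V, hV, hyV, hVle⟩ := TopologicalSpace.Opens.isBasis_iff_nbhd.mp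
        (G ⊗ Y).left.isBasis_affineOpens
        (show y ∈ O ⊓ (snd G Y).left ⁻¹ᵁ Y₀ from ⟨hyO, hyY₀⟩)
      exact ⟨V, ⟨hV, Y₀, hY₀, le_trans hVle inf_le_right⟩, hyV, le_trans hVle inf_le_left⟩)
  have hw : b₀ ≫ Y.hom = (G ⊗ Y).hom := by
    apply eq_of_std_affine (G ◁ f).left
    rw [← Category.assoc, hb₀, Over.w, Over.w]
  obtain ⟨b, hbdef⟩ : ∃ b : G ⊗ Y ⟶ Y, b.left = b₀ := ⟨Over.homMk b₀ hw, rfl⟩
  have hb : (G ◁ f) ≫ b = a.act ≫ f := by
    ext
    rw [Over.comp_left, hbdef]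
    exact hb₀
  obtain ⟨h1std, h1qc⟩ := dominant_whiskerLeft (𝟙_ (Over (Spec (CommRingCat.of k)))) f
  obtain ⟨h2std, h2qc⟩ := dominant_whiskerLeft (G ⊗ G) f
  refine ⟨⟨b, ?_, ?_⟩, hb⟩
  · apply over_epi (𝟙_ (Over (Spec (CommRingCat.of k))) ◁ f)
    calc (𝟙_ (Over (Spec (CommRingCat.of k))) ◁ f) ≫ (η[G] ▷ Y) ≫ b
        = (η[G] ▷ X) ≫ (G ◁ f) ≫ b := by rw [← whisker_exchange_assoc]
      _ = (η[G] ▷ X) ≫ a.act ≫ f := by rw [hb]
      _ = (λ_ X).hom ≫ f := by rw [← Category.assoc, a.one_act]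
      _ = (𝟙_ (Over (Spec (CommRingCat.of k))) ◁ f) ≫ (λ_ Y).hom :=
          (leftUnitor_naturality f).symm
  · apply over_epi ((G ⊗ G) ◁ f)
    calc ((G ⊗ G) ◁ f) ≫ (μ[G] ▷ Y) ≫ b
        = (μ[G] ▷ X) ≫ (G ◁ f) ≫ b := by rw [← whisker_exchange_assoc]
      _ = (μ[G] ▷ X) ≫ a.act ≫ f := by rw [hb]
      _ = (α_ G G X).hom ≫ (G ◁ a.act) ≫ a.act ≫ f := by
          rw [← Category.assoc, a.mul_act]; simp only [Category.assoc]
      _ = (α_ G G X).hom ≫ (G ◁ a.act) ≫ (G ◁ f) ≫ b := by rw [hb]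
      _ = (α_ G G X).hom ≫ (G ◁ (a.act ≫ f)) ≫ b := by
          rw [MonoidalCategory.whiskerLeft_comp]; simp only [Category.assoc]
      _ = (α_ G G X).hom ≫ (G ◁ ((G ◁ f) ≫ b)) ≫ b := by rw [hb]
      _ = (α_ G G X).hom ≫ (G ◁ (G ◁ f)) ≫ (G ◁ b) ≫ b := by
          rw [MonoidalCategory.whiskerLeft_comp]; simp only [Category.assoc]
      _ = ((G ⊗ G) ◁ f) ≫ (α_ G G Y).hom ≫ (G ◁ b) ≫ b := by
          rw [← associator_naturality_right_assoc]

end Groth.Agent.H8.ActDesc
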